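import Mathlib.RingTheory.Etale.StandardEtale
import Mathlib.RingTheory.Etale.Basic
import Mathlib.RingTheory.Unramified.LocalRing
import Mathlib.RingTheory.Filtration
import Mathlib.RingTheory.Ideal.GoingDown
import Mathlib.RingTheory.Flat.Localization
import Mathlib.RingTheory.Flat.TorsionFree
import Mathlib.RingTheory.Smooth.Flat
import Mathlib.RingTheory.UniqueFactorizationDomain.Multiplicity
import Mathlib.FieldTheory.Separable
import Mathlib.FieldTheory.IsAlgClosed.AlgebraicClosure

/-!
# Algebra for Kummer theory on a punctured regular local ring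
-/

set_option autoImplicit false
set_option maxHeartbeats 800000

universe u

open IsLocalRing Polynomial

noncomputable section

namespace EtPunctLib

/-- Roots of units after a surjective étale extension. -/
theorem exists_root_etale {R : Type u} [CommRing R] {n : ℕ} (hn : IsUnit (n : R)) (h0 : 1 ≤ n) (r : Rˣ) :
    ∃ (S : Type u) (_ : CommRing S) (_ : Algebra R S), Algebra.Etale R S ∧
      (∃ ζ : S, ζ ^ n = algebraMap R S r) ∧
      ∀ p : PrimeSpectrum R, ∃ q : PrimeSpectrum S, q.comap (algebraMap R S) = p := by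
  rcases subsingleton_or_nontrivial R with h | h
  · exact ⟨R, inferInstance, Algebra.id R, inferInstance, ⟨0, Subsingleton.elim _ _⟩,
      fun p => ⟨p, PrimeSpectrum.ext (Ideal.ext fun _ => Iff.rfl)⟩⟩
  let f : R[X] := X ^ n - C (r : R)
  obtain ⟨a, b, hab⟩ := separable_X_pow_sub_C_unit r hn
  let P : StandardEtalePair R := ⟨f, monic_X_pow_sub_C (r : R) (by omega), 1, b, a, 0, by
    rw [pow_zero]; linear_combination hab⟩
  refine ⟨P.Ring, inferInstance, inferInstance, inferInstance, ⟨P.X, ?_⟩, fun p => ?_⟩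
  · have hX : aeval P.X f = 0 := P.hasMap_X.1
    simpa [f, sub_eq_zero] using hX
  · let K := AlgebraicClosure p.asIdeal.ResidueField
    let φ : R →+* K := (algebraMap p.asIdeal.ResidueField K).comp (algebraMap R p.asIdeal.ResidueField)
    obtain ⟨z, hz⟩ := IsAlgClosed.exists_pow_nat_eq (φ r) (show 0 < n by omega)
    letI : Algebra R K := φ.toAlgebra
    have hm : P.HasMap z := ⟨by
      show aeval z f = 0
      simp [f, RingHom.algebraMap_toAlgebra, hz], by simp [P]⟩
    refine ⟨⟨RingHom.ker (P.lift z hm).toRingHom, RingHom.ker_isPrime _⟩, PrimeSpectrum.ext ?_⟩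
    show Ideal.comap (algebraMap R P.Ring) (RingHom.ker (P.lift z hm).toRingHom) = p.asIdeal
    rw [RingHom.comap_ker, show (P.lift z hm).toRingHom.comp (algebraMap R P.Ring) = φ from (P.lift z hm).comp_algebraMap]
    rw [RingHom.ker_comp_of_injective _ (algebraMap p.asIdeal.ResidueField K).injective,
      Ideal.ker_algebraMap_residueField]

theorem eq_of_unit_mul_pow {B : Type*} [CommRing B] {ϖ u u' : B} {i j : ℕ} (hu : IsUnit u) (hu' : IsUnit u')
    (hϖ : ϖ ∈ nonZeroDivisors B) (hϖ' : ¬ IsUnit ϖ) (h : u * ϖ ^ i = u' * ϖ ^ j) : i = j := by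
  wlog hij : i ≤ j generalizing i j u u'
  · exact (this hu' hu h.symm (by omega)).symm
  obtain ⟨k, rfl⟩ := Nat.exists_eq_add_of_le hij
  rcases Nat.eq_zero_or_pos k with rfl | hk
  · simp
  refine absurd ?_ hϖ'
  have h' : u = u' * ϖ ^ k := (mul_cancel_right_mem_nonZeroDivisors (pow_mem hϖ i)).1 (by
    rw [h, pow_add]; ring)
  exact (isUnit_pow_iff hk.ne').1 (isUnit_of_mul_isUnit_right (h' ▸ hu))

theorem exists_unit_mul_pow {B : Type*} [CommRing B] [IsLocalRing B] [IsNoetherianRing B] {ϖ : B}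
    (hm : maximalIdeal B = Ideal.span {ϖ}) {y : B} (hy : y ≠ 0) : ∃ (k : ℕ) (u : B), IsUnit u ∧ y = u * ϖ ^ k := by
  have hex : ∃ k, y ∉ (maximalIdeal B) ^ k := by
    by_contra h
    push Not at h
    refine hy ?_
    have h2 : y ∈ ⨅ k : ℕ, (maximalIdeal B) ^ k := (Submodule.mem_iInf _).2 h
    rwa [Ideal.iInf_pow_eq_bot_of_isLocalRing _ (Ideal.IsMaximal.ne_top inferInstance)] at h2
  classical
  obtain ⟨k, hk⟩ : ∃ k, Nat.find hex = k + 1 := by
    refine ⟨Nat.find hex - 1, (Nat.succ_pred_eq_of_pos ?_).symm⟩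
    refine Nat.pos_of_ne_zero fun h => Nat.find_spec hex ?_
    rw [h, pow_zero, Ideal.one_eq_top]
    trivial
  have hy1 : y ∈ (maximalIdeal B) ^ k := not_not.1 (Nat.find_min hex (by omega))
  have hy2 : y ∉ (maximalIdeal B) ^ (k + 1) := hk ▸ Nat.find_spec hex
  rw [hm, Ideal.span_singleton_pow, Ideal.mem_span_singleton] at hy1 hy2
  obtain ⟨u, rfl⟩ := hy1
  refine ⟨k, u, ?_, mul_comm _ _⟩
  by_contra hu
  have hu' : u ∈ maximalIdeal B := hu
  rw [hm, Ideal.mem_span_singleton] at hu'
  exact hy2 (by rw [pow_succ]; exact mul_dvd_mul_left _ hu')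

/-- Over an étale neighbourhood of a prime divisor, exponents of `n`-th powers are divisible by `n`. -/
theorem exists_field_dvd {R S : Type u} [CommRing R] [CommRing S] [IsDomain R] [IsNoetherianRing R] [Algebra R S]
    [Algebra.Etale R S] (π : R) (hπ : π ≠ 0) (q : Ideal S) [q.IsPrime]
    (hq : q.comap (algebraMap R S) = Ideal.span {π}) :
    ∃ (L' : Type u) (_ : Field L') (ψ : S →+* L'), Function.Injective (ψ.comp (algebraMap R S)) ∧
      ∀ (n : ℕ) (w : R) (e : ℕ) (b : L'), w ∉ Ideal.span {π} → b ^ n = ψ (algebraMap R S (π ^ e * w)) → n ∣ e := by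
  let P := Ideal.span {π}
  haveI : P.IsPrime := by rw [show P = q.comap (algebraMap R S) from hq.symm]; infer_instance
  haveI : q.LiesOver P := ⟨hq.symm⟩
  haveI : IsNoetherianRing S := Algebra.FiniteType.isNoetherianRing R S
  let B := Localization.AtPrime q
  haveI : IsNoetherianRing B := IsLocalization.isNoetherianRing q.primeCompl B inferInstance
  let ϖ : B := algebraMap R B π
  have hm : maximalIdeal B = Ideal.span {ϖ} := by
    haveI : Algebra.IsUnramifiedAt R q := inferInstance
    letI := Localization.AtPrime.algebraOfLiesOver P q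
    rw [← ((Algebra.isUnramifiedAt_iff_map_eq R P q).1 inferInstance).2, Ideal.map_span, Set.image_singleton]
  have hϖu : ¬ IsUnit ϖ := fun h => (IsLocalRing.mem_maximalIdeal _).1
    (hm ▸ Ideal.mem_span_singleton_self ϖ : ϖ ∈ maximalIdeal B) h
  haveI : Module.Flat S B := IsLocalization.flat B q.primeCompl
  haveI : Module.Flat R B := Module.Flat.trans R S B
  have hϖ : ϖ ∈ nonZeroDivisors B := by
    rw [mem_nonZeroDivisors_iff_right]
    intro z hz
    have hreg : IsSMulRegular B π := Module.Flat.isSMulRegular_of_isRegular (IsRegular.of_ne_zero hπ)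
    exact hreg (by simp only [Algebra.smul_def, mul_comm (algebraMap R B π)]; rw [hz, zero_mul])
  have hnz : ∀ (k : ℕ) (u : B), IsUnit u → u * ϖ ^ k ≠ 0 := fun k u hu h => by
    refine (hu.ne_zero : u ≠ 0) ?_
    exact (mem_nonZeroDivisors_iff_right.1 (pow_mem hϖ k)) u h
  haveI : NoZeroDivisors B := ⟨fun {a b} h => by
    by_contra hab
    push Not at hab
    obtain ⟨i, u, hu, rfl⟩ := exists_unit_mul_pow hm hab.1
    obtain ⟨j, v, hv, rfl⟩ := exists_unit_mul_pow hm hab.2
    exact hnz (i + j) (u * v) (hu.mul hv) (by rw [← h, pow_add]; ring)⟩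
  haveI : IsDomain B := NoZeroDivisors.to_isDomain B
  let L' := FractionRing B
  refine ⟨L', inferInstance, (algebraMap B L').comp (algebraMap S B), ?_, ?_⟩
  · rw [RingHom.comp_assoc, ← IsScalarTower.algebraMap_eq R S B]
    refine (injective_iff_map_eq_zero _).2 fun r hr0 => ?_
    have hr : algebraMap R B r = 0 := IsFractionRing.injective B L' (hr0.trans (map_zero _).symm)
    by_contra h0
    have hreg : IsSMulRegular B r := Module.Flat.isSMulRegular_of_isRegular (IsRegular.of_ne_zero h0)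
    exact one_ne_zero (hreg (by simp only [Algebra.smul_def, hr, mul_one, mul_zero]) : (1 : B) = 0)
  intro n w e b hw hb
  have hwu : IsUnit (algebraMap R B w) := by
    rw [IsScalarTower.algebraMap_apply R S B]
    refine IsLocalization.map_units B (⟨algebraMap R S w, fun h => hw ?_⟩ : q.primeCompl)
    rw [← hq]
    exact h
  obtain ⟨⟨s, r, hr⟩, rfl⟩ := IsLocalization.mk'_surjective (nonZeroDivisors B) b
  have hr0 : r ≠ 0 := nonZeroDivisors.ne_zero hr
  have he : s ^ n = ϖ ^ e * algebraMap R B w * r ^ n := by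
    refine IsFractionRing.injective B L' ?_
    have h1 := congrArg (fun t => t ^ n) (IsLocalization.mk'_spec L' s ⟨r, hr⟩)
    simp only [mul_pow, RingHom.comp_apply] at h1 hb
    rw [hb, ← IsScalarTower.algebraMap_apply R S B] at h1
    simp only [map_mul, map_pow] at h1 ⊢
    exact h1.symm
  rcases Nat.eq_zero_or_pos n with rfl | hn
  · rw [pow_zero, pow_zero, mul_one] at he
    refine zero_dvd_iff.2 ?_
    by_contra hne
    exact hϖu ((isUnit_pow_iff hne).1 (isUnit_of_mul_isUnit_left (he ▸ isUnit_one)))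
  have hs0 : s ≠ 0 := by
    rintro rfl
    rw [zero_pow hn.ne'] at he
    exact hnz e (algebraMap R B w) hwu (by
      rw [mul_comm]
      exact (mul_eq_zero.1 he.symm).resolve_right (pow_ne_zero n hr0))
  obtain ⟨i, v, hv, rfl⟩ := exists_unit_mul_pow hm hs0
  obtain ⟨j, t, ht, rfl⟩ := exists_unit_mul_pow hm hr0
  have := eq_of_unit_mul_pow (i := i * n) (j := e + j * n) (hv.pow n) (hwu.mul (ht.pow n)) hϖ hϖu (by
    rw [pow_add, pow_mul, pow_mul]
    linear_combination he)
  have h2 : n ∣ e + j * n := this ▸ dvd_mul_left n i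
  exact (Nat.dvd_add_left (dvd_mul_left n j)).1 h2

variable {A : Type u} [CommRing A] [IsDomain A]

theorem exp_eq_of_prime {p a b : A} (hp : Prime p) (ha : ¬ p ∣ a) (hb : ¬ p ∣ b) {i j : ℕ}
    (h : p ^ i * a = p ^ j * b) : i = j := by
  wlog hij : i ≤ j generalizing i j a b
  · exact (this hb ha h.symm (by omega)).symm
  obtain ⟨k, rfl⟩ := Nat.exists_eq_add_of_le hij
  rcases Nat.eq_zero_or_pos k with rfl | hk
  · simp
  refine absurd ?_ ha
  rw [pow_add, mul_assoc] at h
  rw [mul_left_cancel₀ (pow_ne_zero _ hp.ne_zero) h]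
  exact (dvd_pow_self p hk.ne').mul_right b

variable [UniqueFactorizationMonoid A] {L : Type u} [Field L] [Algebra A L] [IsFractionRing A L] {x : A}

theorem not_pow_eq_pow (hx : Prime x) {n : ℕ} (hn : 0 < n) (k : ℕ) (b : L)
    (h : algebraMap A L x ^ k = b ^ n) : n ∣ k := by
  obtain ⟨c, d, hd, rfl⟩ := IsFractionRing.div_surjective (A := A) b
  have hd0 : d ≠ 0 := nonZeroDivisors.ne_zero hd
  have hd' : algebraMap A L d ≠ 0 := (map_ne_zero_iff _ (IsFractionRing.injective A L)).2 hd0
  rw [div_pow, eq_div_iff (pow_ne_zero _ hd'), ← map_pow, ← map_pow, ← map_pow, ← map_mul] at h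
  replace h : x ^ k * d ^ n = c ^ n := IsFractionRing.injective A L h
  have hc0 : c ≠ 0 := by
    rintro rfl
    rw [zero_pow hn.ne'] at h
    exact mul_ne_zero (pow_ne_zero _ hx.ne_zero) (pow_ne_zero _ hd0) h
  obtain ⟨c₀, hc₀, hc₁⟩ := (FiniteMultiplicity.of_prime_left hx hc0).exists_eq_pow_mul_and_not_dvd
  obtain ⟨d₀, hd₀, hd₁⟩ := (FiniteMultiplicity.of_prime_left hx hd0).exists_eq_pow_mul_and_not_dvd
  rw [hc₀, hd₀] at h
  have := exp_eq_of_prime (p := x) (a := d₀ ^ n) (b := c₀ ^ n) (i := k + multiplicity x d * n)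
    (j := multiplicity x c * n) hx (fun h' => hd₁ (hx.dvd_of_dvd_pow h')) (fun h' => hc₁ (hx.dvd_of_dvd_pow h')) (by
      rw [pow_add, pow_mul, pow_mul]
      linear_combination h)
  exact (Nat.dvd_add_left (dvd_mul_left n _)).1 (this ▸ dvd_mul_left n _)

/-- Descent along the factorisation. -/
theorem exists_pow_mul_pow (hx : Prime x) {n : ℕ} (hn : 0 < n) (hroot : ∀ v : Aˣ, ∃ w : A, w ^ n = v)
    (G : Subgroup Lˣ) (hG : ∀ b : Lˣ, b ^ n ∈ G) (xL : Lˣ) (hxL : (xL : L) = algebraMap A L x) (hxG : xL ∈ G)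
    (key : ∀ (π w : A) (e : ℕ) (a : Lˣ), Prime π → ¬ π ∣ x → ¬ π ∣ w → (a : L) = algebraMap A L (π ^ e * w) →
      a ∈ G → n ∣ e)
    (a : Lˣ) (ha : a ∈ G) : ∃ (k : ℤ) (b : Lˣ), a = xL ^ k * b ^ n := by
  have main : ∀ M : A, ∀ a : Lˣ, (a : L) = algebraMap A L M → a ∈ G → ∃ (k : ℤ) (b : Lˣ), a = xL ^ k * b ^ n := by
    intro M
    refine (wellFounded_dvdNotUnit (α := A)).induction (C := fun M => ∀ a : Lˣ, (a : L) = algebraMap A L M → a ∈ G →
      ∃ (k : ℤ) (b : Lˣ), a = xL ^ k * b ^ n) M ?_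
    intro M ih a hM haG
    ·
      have hM0 : M ≠ 0 := by
        rintro rfl
        exact a.ne_zero (hM.trans (map_zero _))
      by_cases hMu : IsUnit M
      · obtain ⟨w, hw⟩ := hroot hMu.unit
        have hwu : IsUnit (algebraMap A L w) := (IsUnit.map _ ((isUnit_pow_iff hn.ne').1 (hw ▸ hMu.unit.isUnit)))
        refine ⟨0, hwu.unit, Units.ext ?_⟩
        rw [zpow_zero, one_mul, Units.val_pow_eq_pow_val, IsUnit.unit_spec, ← map_pow, hw, hM]
        rfl
      · obtain ⟨π, hπirr, M', rfl⟩ := WfDvdMonoid.exists_irreducible_factor hMu hM0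
        have hπ : Prime π := UniqueFactorizationMonoid.irreducible_iff_prime.1 hπirr
        by_cases hπx : π ∣ x
        · obtain ⟨v, hv⟩ := (hπ.associated_of_dvd hx hπx).symm
          -- `x * v = π`
          let N := (v : A) * M'
          have hN : π * M' = x * N := by rw [← hv]; ring
          have hlt : DvdNotUnit N (π * M') :=
            ⟨fun h0 => hM0 (by rw [hN, h0, mul_zero]), x, hx.not_unit, by rw [hN, mul_comm]⟩
          have hu : IsUnit (algebraMap A L N) :=
            isUnit_iff_ne_zero.2 ((map_ne_zero_iff _ (IsFractionRing.injective A L)).2 hlt.1)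
          obtain ⟨k, b, hkb⟩ := ih N hlt hu.unit hu.unit_spec (by
            have : hu.unit = xL⁻¹ * a := by
              rw [eq_inv_mul_iff_mul_eq]
              exact Units.ext (by rw [Units.val_mul, hxL, hu.unit_spec, hM, hN]; simp only [map_mul])
            rw [this]
            exact G.mul_mem (G.inv_mem hxG) haG)
          refine ⟨k + 1, b, ?_⟩
          rw [zpow_add_one, mul_comm _ xL, mul_assoc, ← hkb]
          exact Units.ext (by rw [Units.val_mul, hxL, hu.unit_spec, hM, hN]; simp only [map_mul])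
        · obtain ⟨w, hw, hwd⟩ := (FiniteMultiplicity.of_prime_left hπ hM0).exists_eq_pow_mul_and_not_dvd
          generalize multiplicity π (π * M') = e at hw
          have he : n ∣ e := key π w e a hπ hπx hwd (hM.trans (congrArg _ hw)) haG
          have he0 : e ≠ 0 := by
            rintro rfl
            rw [pow_zero, one_mul] at hw
            exact hwd (hw ▸ dvd_mul_right π M')
          obtain ⟨m, hm⟩ := Nat.exists_eq_add_of_le (Nat.le_of_dvd (Nat.pos_of_ne_zero he0) he)
          let N := π ^ m * w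
          have hN : π * M' = π ^ n * N := by rw [hw, hm, pow_add, mul_assoc]
          have hlt : DvdNotUnit N (π * M') :=
            ⟨fun h0 => hM0 (by rw [hN, h0, mul_zero]), π ^ n, fun h => hπ.not_unit ((isUnit_pow_iff hn.ne').1 h),
              by rw [hN, mul_comm]⟩
          have hu : IsUnit (algebraMap A L N) :=
            isUnit_iff_ne_zero.2 ((map_ne_zero_iff _ (IsFractionRing.injective A L)).2 hlt.1)
          have hp : IsUnit (algebraMap A L π) :=
            isUnit_iff_ne_zero.2 ((map_ne_zero_iff _ (IsFractionRing.injective A L)).2 hπ.ne_zero)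
          have haN : a = hp.unit ^ n * hu.unit := Units.ext (by
            rw [Units.val_mul, Units.val_pow_eq_pow_val, hp.unit_spec, hu.unit_spec, hM, hN, map_mul, map_pow])
          obtain ⟨k, b, hkb⟩ := ih N hlt hu.unit hu.unit_spec (by
            have : hu.unit = (hp.unit ^ n)⁻¹ * a := by rw [haN, inv_mul_cancel_left]
            rw [this]
            exact G.mul_mem (G.inv_mem (hG _)) haG)
          refine ⟨k, hp.unit * b, ?_⟩
          rw [haN, hkb, mul_pow, mul_left_comm]
  obtain ⟨c, d, hd, he⟩ := IsFractionRing.div_surjective (A := A) (a : L)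
  have hd' : IsUnit (algebraMap A L d) :=
    isUnit_iff_ne_zero.2 ((map_ne_zero_iff _ (IsFractionRing.injective A L)).2 (nonZeroDivisors.ne_zero hd))
  obtain ⟨k, b, hkb⟩ := main (c * d ^ (n - 1)) (a * hd'.unit ^ n) (by
    rw [Units.val_mul, Units.val_pow_eq_pow_val, hd'.unit_spec, ← he, map_mul, map_pow]
    obtain ⟨m, rfl⟩ : ∃ m, n = m + 1 := ⟨n - 1, by omega⟩
    rw [Nat.add_sub_cancel, pow_succ', ← mul_assoc, div_mul_cancel₀ _ hd'.ne_zero]) (G.mul_mem ha (hG _))
  refine ⟨k, b * hd'.unit⁻¹, ?_⟩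
  rw [mul_pow, inv_pow, ← mul_assoc, ← hkb, mul_inv_cancel_right]

end EtPunctLib

end
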