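import Groth.Agent.EtPunctLib.Alg
import Groth.Agent.MuConstLib.Main
import Groth.Agent.ConstUnitLib.Unit
import Groth.Agent.EtKummerLib.Hilbert90
import Groth.Agent.S3243
import Groth.Agent.EtAcycLib.Local
import Mathlib.AlgebraicGeometry.Morphisms.Etale

/-!
# `H^1` of `μ_n` on a normal affine scheme through its function field
-/

set_option autoImplicit false
set_option linter.style.haveILetI false
set_option linter.unusedSectionVars false
set_option backward.isDefEq.respectTransparency false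
set_option backward.isDefEq.respectTransparency.types false
set_option synthInstance.maxHeartbeats 400000
set_option maxHeartbeats 2000000

universe u

open CategoryTheory CategoryTheory.Limits CategoryTheory.Abelian AlgebraicGeometry Opposite
open Groth.Agent.EtShLib MuConstLib

noncomputable section

namespace EtPunctLib

variable (R L : Type u) [CommRing R] [Field L] [Algebra R L]

/-- The spectrum. -/
abbrev U : Scheme.{u} := Spec (CommRingCat.of R)

/-- The generic point. -/
abbrev gen : Spec (CommRingCat.of L) ⟶ U R := Spec.map (CommRingCat.ofHom (algebraMap R L))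

/-- `η_* G_m`. -/
abbrev J : EtCoh.Ab (U R) := (EtCoh.push (gen R L)).obj (EtCoh.Gm (Spec (CommRingCat.of L)))

/-- The base change of an object to the generic point. -/
abbrev gV (V : (U R).Etale) : (Spec (CommRingCat.of L)).Etale := (EtCoh.bc (gen R L)).obj V

/-- Constants in functions on the generic fibre. -/
def cst (V : (U R).Etale) : L →+* Γ((gV R L V).left, ⊤) :=
  (gV R L V).hom.appTop.hom.comp (Scheme.ΓSpecIso (CommRingCat.of L)).inv.hom

/-- Units of `L` as sections of `η_* G_m`. -/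
def secV (V : (U R).Etale) (a : Lˣ) : ToType ((J R L).obj.obj (op V)) :=
  ULift.up (Additive.ofMul (Units.map (cst R L V).toMonoidHom a))

theorem gmVal_secV (V : (U R).Etale) (a : Lˣ) :
    gmVal (Spec (CommRingCat.of L)) (W := gV R L V) (secV R L V a) = cst R L V a := rfl

theorem secV_mul (V : (U R).Etale) (a b : Lˣ) : secV R L V (a * b) = secV R L V a + secV R L V b := by
  refine gmVal_injective (Spec (CommRingCat.of L)) (W := gV R L V) ?_
  exact map_mul (cst R L V) (a : L) (b : L)

theorem secV_res {V W : (U R).Etale} (g : V ⟶ W) (a : Lˣ) :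
    (J R L).obj.map g.op (secV R L W a) = secV R L V a := by
  refine gmVal_injective (Spec (CommRingCat.of L)) (W := gV R L V) ?_
  refine (gmVal_map (Spec (CommRingCat.of L)) ((EtCoh.bc (gen R L)).map g) (secV R L W a)).trans ?_
  exact congrArg (fun t : (gV R L V).left ⟶ Spec (CommRingCat.of L) =>
    t.appTop ((Scheme.ΓSpecIso (CommRingCat.of L)).inv (a : L)))
    (MorphismProperty.Over.w ((EtCoh.bc (gen R L)).map g) :
      ((EtCoh.bc (gen R L)).map g).left ≫ (gV R L W).hom = (gV R L V).hom)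

theorem isIso_hom_top : IsIso (gV R L (EtCoh.top (U R))).hom :=
  inferInstanceAs (IsIso (pullback.snd (𝟙 (U R)) (gen R L)))

theorem bijective_secV_top : Function.Bijective (secV R L (EtCoh.top (U R))) := by
  haveI := isIso_hom_top R L
  have hb : Function.Bijective (cst R L (EtCoh.top (U R))) :=
    (ConcreteCategory.bijective_of_isIso ((gV R L (EtCoh.top (U R))).hom.appTop)).comp
      (ConcreteCategory.bijective_of_isIso (Scheme.ΓSpecIso (CommRingCat.of L)).inv)
  exact ULift.up_bijective.comp (Additive.ofMul.bijective.comp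
    (Units.mapEquiv (RingEquiv.ofBijective _ hb).toMulEquiv).bijective)

variable (n : ℕ)

/-- Multiplication by `n`. -/
abbrev mn : J R L ⟶ J R L := n • 𝟙 (J R L)

theorem mn_app (V : (U R).Etale) (b : ToType ((J R L).obj.obj (op V))) :
    (mn R L n).hom.app (op V) b = n • b := rfl

/-- Units with image in the subsheaf of `n`-th powers. -/
def inB : Subgroup Lˣ where
  carrier := {a | (cokernel.π (mn R L n)).hom.app (op (EtCoh.top (U R))) (secV R L _ a) = 0}
  mul_mem' {a b} (ha hb) := by
    show _ = _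
    rw [secV_mul, map_add, ha, hb, add_zero]
  one_mem' := by
    have h := secV_mul R L (EtCoh.top (U R)) 1 1
    rw [one_mul] at h
    show _ = _
    rw [left_eq_add.1 h, map_zero]
  inv_mem' {a} ha := by
    have h := secV_mul R L (EtCoh.top (U R)) a a⁻¹
    rw [mul_inv_cancel] at h
    have h1 := secV_mul R L (EtCoh.top (U R)) 1 1
    rw [one_mul] at h1
    rw [left_eq_add.1 h1] at h
    show _ = _
    rw [← neg_eq_of_add_eq_zero_right h.symm, map_neg, ha, neg_zero]

theorem mem_inB_of_local {a : Lˣ}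
    (h : ∀ u : U R, ∃ (V : (U R).Etale) (g : V ⟶ EtCoh.top (U R)) (v : V.left), g.left.base v = u ∧
      ∃ b, n • b = (J R L).obj.map g.op (secV R L _ a)) : a ∈ inB R L n := by
  refine eq_of_germ (cokernel (mn R L n)) _ _ fun Ω _ _ ξ w => ?_
  obtain ⟨V, g, v, hv, b, hb⟩ := h w.pt
  haveI := etale_left g
  obtain ⟨l, hl, -⟩ := Scheme.exists_fac_of_etale_of_isSepClosed g.left w.hom v hv
  let w' : Fib ξ V := Fib.mk l (by rw [← MorphismProperty.Over.w g, ← Category.assoc, hl, Fib.w])
  have hw : w'.map g = w := Fib.ext ((Fib.map_hom g w').trans hl)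
  rw [← hw, ← germ_res_apply, ← germ_res_apply]
  refine congrArg (germ (A := AddCommGrpCat.{u + 1}) ξ _ V w') ?_
  rw [map_zero ((cokernel (mn R L n)).obj.map g.op).hom, ← NatTrans.naturality_apply, ← hb, ← mn_app]
  exact congrArg (fun t : J R L ⟶ _ => t.hom.app (op V) b) (cokernel.condition (mn R L n))

theorem exists_image_section {a : Lˣ} (ha : a ∈ inB R L n) :
    ∃ s : ToType ((Abelian.image (mn R L n)).obj.obj (op (EtCoh.top (U R)))),
      (Abelian.image.ι (mn R L n)).hom.app (op (EtCoh.top (U R))) s = secV R L _ a := by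
  let E := sheafToPresheaf (U R).smallEtaleTopology AddCommGrpCat.{u + 1} ⋙
    (evaluation (U R).Etaleᵒᵖ AddCommGrpCat.{u + 1}).obj (op (EtCoh.top (U R)))
  haveI : PreservesFiniteLimits E := comp_preservesFiniteLimits _ _
  haveI : E.Additive := ⟨fun {_ _ _ _} => rfl⟩
  let S := ShortComplex.mk (Abelian.image.ι (mn R L n)) (cokernel.π (mn R L n)) (kernel.condition _)
  exact (ShortComplex.ab_exact_iff _).1 ((S.map E).exact_of_f_is_kernel
    (KernelFork.mapIsLimit _ (kernelIsKernel (cokernel.π (mn R L n))) E)) _ ha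

theorem local_of_mem_inB {a : Lˣ} (ha : a ∈ inB R L n) (u : U R) :
    ∃ (V : (U R).Etale) (v : V.left) (b : ToType ((J R L).obj.obj (op V))),
      V.hom.base v = u ∧ n • b = secV R L V a := by
  obtain ⟨s, hs⟩ := exists_image_section R L n ha
  obtain ⟨V, φ, ⟨v, hv⟩, b, hb⟩ := EtAcycLib.exists_lift (Abelian.factorThruImage (mn R L n)) (EtCoh.top (U R)) s u
  refine ⟨V, v, b, ?_, ?_⟩
  · rw [← hv, ← MorphismProperty.Over.w φ]
    rfl
  · rw [← mn_app, ← secV_res R L φ, ← hs, ← NatTrans.naturality_apply, ← hb]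
    exact (congrArg (fun t : J R L ⟶ J R L => t.hom.app (op V) b) (Abelian.image.fac (mn R L n))).symm

theorem appTop_ΓSpecIso {A B : CommRingCat.{u}} (f : A ⟶ B) (z : A) :
    (Spec.map f).appTop ((Scheme.ΓSpecIso A).inv z) = (Scheme.ΓSpecIso B).inv (f z) := by
  rw [← CommRingCat.comp_apply, ← Scheme.ΓSpecIso_inv_naturality]
  rfl

theorem mem_inB_unit (h0 : 1 ≤ n) (hn : IsUnit (n : R)) (r : Rˣ) :
    Units.map (algebraMap R L).toMonoidHom r ∈ inB R L n := by
  obtain ⟨S, _, _, hS, ⟨ζ, hζ⟩, hsurj⟩ := exists_root_etale hn h0 r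
  let p : Spec (CommRingCat.of S) ⟶ U R := Spec.map (CommRingCat.ofHom (algebraMap R S))
  haveI : AlgebraicGeometry.Etale p :=
    (HasRingHomProperty.Spec_iff (P := @AlgebraicGeometry.Etale)).2 (RingHom.etale_algebraMap.2 hS)
  let V : (U R).Etale := Scheme.Etale.mk p
  refine mem_inB_of_local R L n fun u => ?_
  obtain ⟨q, hq⟩ := hsurj u
  refine ⟨V, MorphismProperty.Over.homMk p (Category.comp_id _), q, hq, ?_⟩
  rw [secV_res]
  let ζ' : Γ((gV R L V).left, ⊤) := (pullback.fst p (gen R L)).appTop ((Scheme.ΓSpecIso (CommRingCat.of S)).inv ζ)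
  have hz : ζ' ^ n = cst R L V (algebraMap R L r) := by
    show ((pullback.fst p (gen R L)).appTop ((Scheme.ΓSpecIso (CommRingCat.of S)).inv ζ)) ^ n =
      (pullback.snd p (gen R L)).appTop ((Scheme.ΓSpecIso (CommRingCat.of L)).inv (algebraMap R L r))
    rw [← map_pow, ← map_pow, hζ]
    have h1 := appTop_ΓSpecIso (CommRingCat.ofHom (algebraMap R S)) (r : R)
    have h2 := appTop_ΓSpecIso (CommRingCat.ofHom (algebraMap R L)) (r : R)
    simp only [CommRingCat.ofHom, CommRingCat.hom_ofHom] at h1 h2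
    refine ((congrArg (pullback.fst p (gen R L)).appTop h1.symm).trans ?_).trans
      (congrArg (pullback.snd p (gen R L)).appTop h2)
    rw [← CommRingCat.comp_apply, ← CommRingCat.comp_apply (Spec.map _).appTop, ← Scheme.Hom.comp_appTop,
      ← Scheme.Hom.comp_appTop]
    exact congrArg (fun t : pullback p (gen R L) ⟶ U R => t.appTop _) pullback.condition
  have hu : IsUnit ζ' := (isUnit_pow_iff (by omega : n ≠ 0)).1
    (hz ▸ (r.isUnit.map (algebraMap R L)).map (cst R L V))
  refine ⟨ULift.up (Additive.ofMul hu.unit), gmVal_injective (Spec (CommRingCat.of L)) (W := gV R L V) ?_⟩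
  exact (gmVal_nsmul (Spec (CommRingCat.of L)) (W := gV R L V) n _).trans hz

theorem dvd_of_mem_inB [IsDomain R] [IsNoetherianRing R] [IsFractionRing R L] {a : Lˣ} (π w : R) (e : ℕ)
    (hπ : Prime π) (hw : ¬ π ∣ w) (hae : (a : L) = algebraMap R L (π ^ e * w)) (ha : a ∈ inB R L n) : n ∣ e := by
  haveI : (Ideal.span {π}).IsPrime := (Ideal.span_singleton_prime hπ.ne_zero).2 hπ
  let u : U R := ⟨Ideal.span {π}, inferInstance⟩
  obtain ⟨V, v, b, hv, hb⟩ := local_of_mem_inB R L n ha u
  obtain ⟨W, hW, hvW, -⟩ := exists_isAffineOpen_mem_and_subset (show v ∈ (⊤ : V.left.Opens) from trivial)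
  haveI : AlgebraicGeometry.Etale V.hom := V.prop
  haveI : IsOpenImmersion hW.fromSpec := hW.isOpenImmersion_fromSpec
  let φ : CommRingCat.of R ⟶ Γ(V.left, W) := Spec.preimage (hW.fromSpec ≫ V.hom)
  have hφ : Spec.map φ = hW.fromSpec ≫ V.hom := Spec.map_preimage _
  letI : Algebra R Γ(V.left, W) := φ.hom.toAlgebra
  haveI : Algebra.Etale R Γ(V.left, W) := RingHom.etale_algebraMap.1 (by
    have h : AlgebraicGeometry.Etale (Spec.map φ) := by rw [hφ]; infer_instance
    exact (HasRingHomProperty.Spec_iff (P := @AlgebraicGeometry.Etale)).1 h)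
  obtain ⟨q, hq⟩ : v ∈ Set.range hW.fromSpec.base := by rw [hW.range_fromSpec]; exact hvW
  have hqP : q.asIdeal.comap (algebraMap R Γ(V.left, W)) = Ideal.span {π} := by
    have h : (Spec.map φ).base q = u := by
      rw [hφ, ← hv, ← hq]
      rfl
    exact congrArg PrimeSpectrum.asIdeal h
  haveI := q.isPrime
  obtain ⟨L', _, ψ, hinj, hdiv⟩ := exists_field_dvd π hπ.ne_zero q.asIdeal hqP
  let ψL : L →+* L' := IsFractionRing.lift hinj
  have hψL : ψL.comp (algebraMap R L) = ψ.comp (algebraMap R Γ(V.left, W)) :=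
    RingHom.ext fun z => IsFractionRing.lift_algebraMap hinj z
  let l : Spec (CommRingCat.of L') ⟶ (gV R L V).left :=
    pullback.lift (Spec.map (CommRingCat.ofHom ψ) ≫ hW.fromSpec) (Spec.map (CommRingCat.ofHom ψL)) (by
      rw [Category.assoc, ← hφ, ← Spec.map_comp, ← Spec.map_comp]
      exact congrArg Spec.map (CommRingCat.hom_ext hψL.symm))
  let b' : L' := (Scheme.ΓSpecIso (CommRingCat.of L')).hom (l.appTop (gmVal (Spec (CommRingCat.of L)) b))
  refine hdiv n w e b' (fun h => hw (Ideal.mem_span_singleton.1 h)) ?_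
  have h1 := congrArg (gmVal (Spec (CommRingCat.of L)) (W := gV R L V)) hb
  rw [gmVal_secV] at h1
  replace h1 := (gmVal_nsmul (Spec (CommRingCat.of L)) (W := gV R L V) n b).symm.trans h1
  have h2 : l.appTop (cst R L V a) = (Scheme.ΓSpecIso (CommRingCat.of L')).inv (ψL a) := by
    show (l ≫ pullback.snd V.hom (gen R L)).appTop ((Scheme.ΓSpecIso (CommRingCat.of L)).inv (a : L)) = _
    rw [pullback.lift_snd]
    exact appTop_ΓSpecIso (CommRingCat.ofHom ψL) (a : L)
  show b' ^ n = _
  simp only [b']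
  rw [← map_pow, ← map_pow, h1, h2, Iso.inv_hom_id_apply, hae]
  exact congrFun (congrArg DFunLike.coe hψL) _

/-- Morphisms out of the constant sheaf. -/
def cHom {X : Scheme.{u}} {G : EtCoh.Ab X} (s : ToType (G.obj.obj (op (EtCoh.top X)))) : EtCoh.const X ℤ ⟶ G :=
  ((EtCore.constAdj X).homEquiv _ _).symm (EtSliceLib.intHom s)

theorem cHom_one {X : Scheme.{u}} {G : EtCoh.Ab X} (s : ToType (G.obj.obj (op (EtCoh.top X)))) :
    (EtCore.gsec X).map (cHom s) (DescSecLib.etOneSec X ⟨1⟩) = s :=
  (EtSliceLib.gsec_map_symm _).trans (EtSliceLib.intHom_one _)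

theorem cHom_add {X : Scheme.{u}} {G : EtCoh.Ab X} (s t : ToType (G.obj.obj (op (EtCoh.top X)))) :
    cHom (s + t) = cHom s + cHom t := by
  refine DescSecLib.et_ext_Z _ _ ?_
  rw [cHom_one]
  exact (congrArg₂ (· + ·) (cHom_one s) (cHom_one t)).symm

theorem cHom_comp {X : Scheme.{u}} {G G' : EtCoh.Ab X} (f : G ⟶ G') (s : ToType (G.obj.obj (op (EtCoh.top X)))) :
    cHom (f.hom.app (op (EtCoh.top X)) s) = cHom s ≫ f := by
  refine DescSecLib.et_ext_Z _ _ ?_
  rw [cHom_one, Functor.map_comp, ConcreteCategory.comp_apply, cHom_one]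
  rfl

theorem nonempty_kernel_iso_mu [IsDomain R] [IsIntegrallyClosed R] [IsFractionRing R L]
    (hU : Nonempty (EtCoh.mu (U R) n ≅ EtCoh.const (U R) (ZMod n)))
    (hL : Nonempty (EtCoh.mu (Spec (CommRingCat.of L)) n ≅ EtCoh.const (Spec (CommRingCat.of L)) (ZMod n)))
    (hN : Pi1.IsNormalScheme (U R)) :
    Nonempty (kernel (mn R L n) ≅ EtCoh.mu (U R) n) := by
  obtain ⟨eU⟩ := hU
  obtain ⟨eL⟩ := hL
  let η := gen R L
  haveI : IsPreimmersion η := IsPreimmersion.of_isLocalization (S := L) (nonZeroDivisors R)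
  have hg : Set.range η.base = {genericPoint (U R)} := by
    rw [genericPoint_eq_bot_of_affine (CommRingCat.of R)]
    ext z
    constructor
    · rintro ⟨p, rfl⟩
      refine PrimeSpectrum.ext ?_
      show p.asIdeal.comap (algebraMap R L) = ⊥
      rw [Ideal.eq_bot_of_prime p.asIdeal, ← RingHom.ker_eq_comap_bot]
      exact (RingHom.injective_iff_ker_eq_bot _).1 (IsFractionRing.injective R L)
    · rintro rfl
      refine ⟨(⟨⊥, Ideal.bot_prime⟩ : PrimeSpectrum L), PrimeSpectrum.ext ?_⟩
      show (⊥ : Ideal L).comap (algebraMap R L) = ⊥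
      rw [← RingHom.ker_eq_comap_bot]
      exact (RingHom.injective_iff_ker_eq_bot _).1 (IsFractionRing.injective R L)
  have hd : DenseRange η.base := by
    show Dense (Set.range η.base)
    rw [hg]
    exact dense_iff_closure_eq.2 (genericPoint_spec (U R))
  haveI := ConstUnitLib.isIso_unit_const η (fun W => ConstUnitLib.denseRange_fst hd W)
    (ConstUnitLib.locExt_generic hN η hg) (AddCommGrpCat.of (ULift.{u + 1} (ZMod n)))
  haveI : PreservesLimitsOfSize.{0, 0} (EtCoh.push η) := (EtCoh.pullPushAdj η).rightAdjoint_preservesLimits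
  haveI : PreservesFiniteLimits (EtCoh.push η) := PreservesLimitsOfSize.preservesFiniteLimits _
  haveI : (EtCoh.push η).Additive := { }
  have hp : (EtCoh.push η).map (EtCoh.powMap (Spec (CommRingCat.of L)) n) = mn R L n := by
    show (EtCoh.push η).map (n • 𝟙 _) = _
    rw [Functor.map_nsmul, CategoryTheory.Functor.map_id]
  exact ⟨(kernel.mapIso _ (mn R L n) (Iso.refl _) (Iso.refl _)
      ((Category.comp_id _).trans (hp.trans (Category.id_comp _).symm))).symm ≪≫
    (PreservesKernel.iso (EtCoh.push η) (EtCoh.powMap (Spec (CommRingCat.of L)) n)).symm ≪≫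
    (EtCoh.push η).mapIso (eL ≪≫ (EtCore.pullConst η (ZMod n)).symm) ≪≫
    (asIso ((EtCoh.pullPushAdj η).unit.app (EtCoh.const (U R) (ZMod n)))).symm ≪≫ eU.symm⟩

theorem nonempty_H1_addEquiv (K : EtCoh.Ab (U R)) (e : kernel (mn R L n) ≅ K) (x : Lˣ) (hx : x ∈ inB R L n)
    (hgen : ∀ a ∈ inB R L n, ∃ (k : ℤ) (b : Lˣ), a = x ^ k * b ^ n)
    (hind : ∀ (k : ℤ) (b : Lˣ), x ^ k = b ^ n → (n : ℤ) ∣ k) :
    Nonempty (EtCoh.H (U R) K 1 ≃+ ZMod n) := by
  haveI : Subsingleton (EtCoh.H (Spec (CommRingCat.of L)) (EtCoh.Gm (Spec (CommRingCat.of L))) 1) :=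
    EtKummerLib.subsingleton_H1_Gm L
  haveI hJ : Subsingleton (EtCoh.H (U R) (J R L) 1) :=
    Groth.Agent.S3243.subsingleton_H1_push (gen R L) _
  let m := mn R L n
  let g := Abelian.factorThruImage m
  let S : ShortComplex (EtCoh.Ab (U R)) := ShortComplex.mk (kernel.ι m) g (by
    rw [← cancel_mono (Abelian.image.ι m), Category.assoc, Abelian.image.fac, kernel.condition, zero_comp])
  have hS : S.ShortExact :=
    { exact := ShortComplex.exact_of_f_is_kernel S (KernelFork.IsLimit.ofι _ _
        (fun a ha => kernel.lift m a (by rw [← Abelian.image.fac m, ← Category.assoc, ha, zero_comp]))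
        (fun a ha => kernel.lift_ι _ _ _)
        (fun a ha b hb => by rw [← cancel_mono (kernel.ι m), kernel.lift_ι]; exact hb))
      mono_f := inferInstanceAs (Mono (kernel.ι m))
      epi_g := inferInstanceAs (Epi (Abelian.factorThruImage m)) }
  let T := EtCoh.top (U R)
  let i : ToType (S.X₃.obj.obj (op T)) → ToType ((J R L).obj.obj (op T)) := (Abelian.image.ι m).hom.app (op T)
  have hinj : Function.Injective i := by
    haveI : Mono ((sheafToPresheaf (U R).smallEtaleTopology AddCommGrpCat.{u + 1}).map (Abelian.image.ι m)) :=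
      inferInstance
    exact (AddCommGrpCat.mono_iff_injective _).1 (inferInstanceAs
      (Mono (((sheafToPresheaf (U R).smallEtaleTopology AddCommGrpCat.{u + 1}).map (Abelian.image.ι m)).app (op T))))
  let Φ : ToType (S.X₃.obj.obj (op T)) →+ EtCoh.H (U R) (kernel m) 1 :=
    AddMonoidHom.mk' (fun s => (Ext.mk₀ (cHom s)).comp hS.extClass (zero_add 1)) fun s t => by
      rw [cHom_add, Ext.mk₀_add, Ext.add_comp]
  have hΦ : Function.Surjective Φ := fun z => by
    obtain ⟨d, hd⟩ := Ext.covariant_sequence_exact₁ _ hS z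
      (Subsingleton.elim (α := EtCoh.H (U R) (J R L) 1) _ _) (n₀ := 0) rfl
    obtain ⟨h, rfl⟩ := (Ext.mk₀_bijective _ _).2 d
    refine ⟨(EtCore.gsec (U R)).map h (DescSecLib.etOneSec (U R) ⟨1⟩), Eq.trans ?_ hd⟩
    show (Ext.mk₀ (cHom _)).comp hS.extClass (zero_add 1) = _
    rw [DescSecLib.et_ext_Z (cHom _) h (cHom_one _)]
  have hker : ∀ s, Φ s = 0 ↔ ∃ b, i s = n • b := fun s => by
    constructor
    · intro hs
      obtain ⟨w, hw⟩ := Ext.covariant_sequence_exact₃ _ hS _ (n₁ := 1) (zero_add 1) hs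
      obtain ⟨f, rfl⟩ := (Ext.mk₀_bijective _ _).2 w
      rw [Ext.mk₀_comp_mk₀] at hw
      let b := (EtCore.gsec (U R)).map f (DescSecLib.etOneSec (U R) ⟨1⟩)
      refine ⟨b, ?_⟩
      have hb : g.hom.app (op T) b = s := by
        have h := cHom_one s
        rw [← (Ext.mk₀_bijective _ _).1 hw, Functor.map_comp, ConcreteCategory.comp_apply] at h
        exact h
      rw [← hb, ← mn_app]
      exact congrArg (fun t : J R L ⟶ J R L => t.hom.app (op T) b) (Abelian.image.fac m)
    · rintro ⟨b, hb⟩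
      have hb' : g.hom.app (op T) b = s := hinj (by
        rw [hb, ← mn_app]
        exact congrArg (fun t : J R L ⟶ J R L => t.hom.app (op T) b) (Abelian.image.fac m))
      show (Ext.mk₀ (cHom s)).comp hS.extClass (zero_add 1) = 0
      rw [← hb', cHom_comp g b, ← Ext.mk₀_comp_mk₀, Ext.comp_assoc_of_second_deg_zero]
      show Ext.comp (Ext.mk₀ _) ((Ext.mk₀ S.g).comp hS.extClass _) _ = 0
      rw [hS.comp_extClass, Ext.comp_zero]
  obtain ⟨sx, hsx⟩ := exists_image_section R L n hx
  let secA : Additive Lˣ →+ ToType ((J R L).obj.obj (op T)) :=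
    AddMonoidHom.mk' (fun a => secV R L T a.toMul) fun a b => secV_mul R L T a.toMul b.toMul
  have hsecA : Function.Bijective secA := (bijective_secV_top R L).comp Additive.toMul.bijective
  have hsx' : ∀ k : ℤ, i (k • sx) = secV R L T (x ^ k) := fun k => by
    show ((Abelian.image.ι m).hom.app (op T)).hom (k • sx) = _
    rw [map_zsmul]
    exact (congrArg (k • ·) hsx).trans (map_zsmul secA k (Additive.ofMul x)).symm
  have hpow : ∀ b : Lˣ, secV R L T (b ^ n) = n • secV R L T b := fun b => map_nsmul secA n (Additive.ofMul b)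
  let χ : ℤ →+ EtCoh.H (U R) (kernel m) 1 := Φ.comp (zmultiplesHom _ sx)
  have hχ : Function.Surjective χ := fun z => by
    obtain ⟨s, rfl⟩ := hΦ z
    obtain ⟨a, ha⟩ := (bijective_secV_top R L).2 (i s)
    obtain ⟨k, b, hkb⟩ := hgen a (by
      show (cokernel.π m).hom.app (op T) (secV R L T a) = 0
      rw [ha]
      exact congrArg (fun t : S.X₃ ⟶ cokernel m => t.hom.app (op T) s) (kernel.condition (cokernel.π m)))
    refine ⟨k, ?_⟩
    show Φ (k • sx) = Φ s
    rw [← sub_eq_zero, ← map_sub, hker]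
    refine ⟨secV R L T b⁻¹, ?_⟩
    show ((Abelian.image.ι m).hom.app (op T)).hom (k • sx - s) = _
    rw [map_sub, show ((Abelian.image.ι m).hom.app (op T)).hom (k • sx) = secV R L T (x ^ k) from hsx' k,
      show ((Abelian.image.ι m).hom.app (op T)).hom s = secV R L T a from ha.symm, ← hpow, sub_eq_iff_eq_add,
      ← secV_mul, hkb, ← mul_assoc, mul_comm _ (x ^ k), mul_assoc, ← mul_pow, inv_mul_cancel, one_pow, mul_one]
  have hχk : χ.ker = AddSubgroup.zmultiples (n : ℤ) := by
    ext k
    rw [AddMonoidHom.mem_ker, Int.mem_zmultiples_iff]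
    show Φ (k • sx) = 0 ↔ _
    rw [hker, hsx']
    constructor
    · rintro ⟨b', hb'⟩
      obtain ⟨b, rfl⟩ := (bijective_secV_top R L).2 b'
      exact hind k b ((bijective_secV_top R L).1 (hb'.trans (hpow b).symm))
    · rintro ⟨t, rfl⟩
      exact ⟨secV R L T (x ^ t), by rw [← hpow, ← zpow_natCast, ← zpow_mul, mul_comm]⟩
  let e₁ := (QuotientAddGroup.quotientKerEquivOfSurjective χ hχ).symm.trans
    ((QuotientAddGroup.quotientAddEquivOfEq hχk).trans (Int.quotientZMultiplesNatEquivZMod n))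
  exact ⟨((EtCoh.HF (U R) 1).mapIso e).addCommGroupIsoToAddEquiv.symm.trans e₁⟩

end EtPunctLib

end
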